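import Groth.Agent.Lib.PtFun25.Ring
import Groth.Agent.Lib.DVRDom.Scheme
import Mathlib.AlgebraicGeometry.ValuativeCriterion
import Mathlib.AlgebraicGeometry.Morphisms.FlatMono
import Mathlib.AlgebraicGeometry.Morphisms.UniversallyInjective

/-!
# Valuative lifting for monomorphisms
-/

set_option autoImplicit false
set_option backward.isDefEq.respectTransparency false

universe u

open CategoryTheory CategoryTheory.Limits AlgebraicGeometry IsLocalRing

namespace GrothLib.MonoLift9

variable {X Y : Scheme.{u}}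

theorem isIso_specMap_residueFieldMap (f : Y ⟶ X) [Mono f] (y : Y) :
    IsIso (Spec.map (f.residueFieldMap y)) := by
  have h : Spec.map (f.residueFieldMap y) ≫ X.fromSpecResidueField (f y) =
      Y.fromSpecResidueField y ≫ f := Scheme.Hom.SpecMap_residueFieldMap_fromSpecResidueField f y
  have : Mono (Spec.map (f.residueFieldMap y) ≫ X.fromSpecResidueField (f y)) := by
    rw [h]; infer_instance
  have : Mono (Spec.map (f.residueFieldMap y)) := mono_of_mono _ (X.fromSpecResidueField (f y))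
  have : Flat (Spec.map (f.residueFieldMap y)) := by
    rw [HasRingHomProperty.Spec_iff (P := @Flat)]
    let := (f.residueFieldMap y).hom.toAlgebra
    change Module.Flat (X.residueField (f y)) (Y.residueField y)
    infer_instance
  have : Surjective (Spec.map (f.residueFieldMap y)) :=
    ⟨fun p ↦ ⟨closedPoint _, Subsingleton.elim _ _⟩⟩
  exact Flat.isIso_of_surjective_of_mono _

theorem isIso_residueFieldMap (f : Y ⟶ X) [Mono f] (y : Y) : IsIso (f.residueFieldMap y) := by
  have : IsIso (Scheme.Spec.map (f.residueFieldMap y).op) := isIso_specMap_residueFieldMap f y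
  have := isIso_of_reflects_iso (f.residueFieldMap y).op Scheme.Spec
  exact isIso_of_op _

/-- A field-valued point of the base over the image of `y` lifts to `y`. -/
theorem exists_point_lift (f : Y ⟶ X) [Mono f] {F : Type u} [Field F]
    (t : Spec (CommRingCat.of F) ⟶ X) (y : Y) (h : t (closedPoint F) = f y) :
    ∃ l : Spec (CommRingCat.of F) ⟶ Y, l ≫ f = t ∧ l (closedPoint F) = y := by
  have := isIso_specMap_residueFieldMap f y
  obtain ⟨c, hc⟩ : ∃ c : Spec (CommRingCat.of F) ⟶ Spec (X.residueField (f y)),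
      c ≫ X.fromSpecResidueField (f y) = t := by
    rw [← h]
    exact ⟨_, Scheme.descResidueField_stalkClosedPointTo_fromSpecResidueField _ _ t⟩
  refine ⟨c ≫ inv (Spec.map (f.residueFieldMap y)) ≫ Y.fromSpecResidueField y, ?_, ?_⟩
  · rw [Category.assoc, Category.assoc, ← Scheme.Hom.SpecMap_residueFieldMap_fromSpecResidueField,
      IsIso.inv_hom_id_assoc, hc]
  · simp [Scheme.fromSpecResidueField_apply]

/-- `f` has the valuative lifting property relative to lifts of the closed point. -/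
def ClosedLift (f : Y ⟶ X) : Prop :=
  ∀ S : ValuativeCommSq f,
    (∃ l₀ : Spec (CommRingCat.of (IsLocalRing.ResidueField S.R)) ⟶ Y,
        l₀ ≫ f = Spec.map (CommRingCat.ofHom (IsLocalRing.residue S.R)) ≫ S.i₂) →
      S.commSq.HasLift

theorem specMap_closedPoint {A B : CommRingCat.{u}} [IsLocalRing A] [IsLocalRing B] (φ : A ⟶ B)
    [IsLocalHom φ.hom] : Spec.map φ (closedPoint B) = closedPoint A :=
  comap_closedPoint φ.hom

theorem specializes_of_closedLift (f : Y ⟶ X) [Mono f] (hf : ClosedLift f) (y₀ y₁ : Y)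
    (h : f y₁ ⤳ f y₀) : y₁ ⤳ y₀ := by
  let ψ := DVRDom.toResidue f y₁ (f y₀) h
  obtain ⟨A, hA, hA_local⟩ := exists_factor_valuationRing ψ.hom
  let ψA : X.presheaf.stalk (f y₀) ⟶ CommRingCat.of A := CommRingCat.ofHom (ψ.hom.codRestrict _ hA)
  have : IsLocalHom ψA.hom := hA_local
  have hw : Y.fromSpecResidueField y₁ ≫ f =
      Spec.map (CommRingCat.ofHom (algebraMap A (Y.residueField y₁))) ≫
        Spec.map ψA ≫ X.fromSpecStalk (f y₀) := by
    rw [← DVRDom.specMap_toResidue f y₁ (f y₀) h, ← Spec.map_comp_assoc]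
    rfl
  let S : ValuativeCommSq f :=
    ⟨A, Y.residueField y₁, Y.fromSpecResidueField y₁, Spec.map ψA ≫ X.fromSpecStalk (f y₀), ⟨hw⟩⟩
  have hcl : S.i₂ (closedPoint A) = f y₀ := by
    change (Spec.map ψA ≫ X.fromSpecStalk (f y₀)) (closedPoint _) = _
    rw [Scheme.Hom.comp_apply, specMap_closedPoint, Scheme.fromSpecStalk_closedPoint]
  obtain ⟨l₀, hl₀, -⟩ := exists_point_lift f
    (Spec.map (CommRingCat.ofHom (IsLocalRing.residue A)) ≫ S.i₂) y₀ (by
      rw [Scheme.Hom.comp_apply]
      exact (congrArg S.i₂ (comap_closedPoint (IsLocalRing.residue A))).trans hcl)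
  obtain ⟨⟨l⟩⟩ := hf S ⟨l₀, hl₀⟩
  have h0 : l.l (closedPoint A) = y₀ := f.injective (by
    rw [← Scheme.Hom.comp_apply, l.fac_right, hcl])
  have h1 : l.l (Spec.map (CommRingCat.ofHom (algebraMap A (Y.residueField y₁)))
      (closedPoint _)) = y₁ := by
    rw [← Scheme.Hom.comp_apply, l.fac_left]
    exact Scheme.fromSpecResidueField_apply _ _
  exact (Inseparable.of_eq h1.symm).specializes.trans
    (((specializes_closedPoint _).map l.l.continuous).trans (Inseparable.of_eq h0).specializes)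

theorem closedLift_baseChange (f : Y ⟶ X) [Mono f] (hf : ClosedLift f) {X' : Scheme.{u}}
    (g : X' ⟶ X) : ClosedLift (pullback.snd f g) := by
  intro S ⟨l₀, hl₀⟩
  let S' : ValuativeCommSq f :=
    ⟨S.R, S.K, S.i₁ ≫ pullback.fst f g, S.i₂ ≫ g, ⟨by
      rw [Category.assoc, pullback.condition, ← Category.assoc, S.commSq.w, Category.assoc]⟩⟩
  obtain ⟨⟨l⟩⟩ := hf S' ⟨l₀ ≫ pullback.fst f g, by
    change _ = _ ≫ S.i₂ ≫ g
    rw [Category.assoc, pullback.condition, ← Category.assoc, hl₀, Category.assoc]⟩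
  have hr : pullback.lift l.l S.i₂ l.fac_right ≫ pullback.snd f g = S.i₂ := pullback.lift_snd _ _ _
  refine ⟨⟨⟨pullback.lift l.l S.i₂ l.fac_right, ?_, hr⟩⟩⟩
  rw [← cancel_mono (pullback.snd f g), Category.assoc, hr]
  exact S.commSq.w.symm

/-- Reflection of specializations after base change gives valuative lifts. -/
theorem closedLift_of_reflects (f : Y ⟶ X)
    (h : ∀ (X' : Scheme.{u}) (g : X' ⟶ X) (y₀ y₁ : ↥(pullback f g)),
      (pullback.snd f g).base y₁ ⤳ (pullback.snd f g).base y₀ → y₁ ⤳ y₀) : ClosedLift f := by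
  intro S ⟨l₀, hl₀⟩
  let q := pullback.snd f S.i₂
  let alg := CommRingCat.ofHom (algebraMap S.R S.K)
  let a₁ : Spec (CommRingCat.of S.K) ⟶ pullback f S.i₂ :=
    pullback.lift S.i₁ (Spec.map alg) S.commSq.w
  let a₀ : Spec (CommRingCat.of (IsLocalRing.ResidueField S.R)) ⟶ pullback f S.i₂ :=
    pullback.lift l₀ (Spec.map (CommRingCat.ofHom (IsLocalRing.residue S.R))) hl₀
  have ha₁ : a₁ ≫ q = Spec.map alg := pullback.lift_snd _ _ _
  have hq₀ : q (a₀ (closedPoint _)) = closedPoint S.R := by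
    rw [← Scheme.Hom.comp_apply, pullback.lift_snd]
    exact comap_closedPoint (IsLocalRing.residue S.R)
  have hs : a₁ (closedPoint _) ⤳ a₀ (closedPoint _) := by
    refine h _ S.i₂ _ _ ?_
    change q _ ⤳ q _
    rw [hq₀]
    exact specializes_closedPoint _
  generalize hy₀ : a₀ (closedPoint _) = y₀ at hq₀ hs
  let P := pullback f S.i₂
  let σ : CommRingCat.of S.R ⟶ P.presheaf.stalk y₀ := Spec.preimage (P.fromSpecStalk y₀ ≫ q)
  have hσ : IsLocalHom σ.hom := by
    refine (IsLocalRing.local_hom_TFAE σ.hom).out 4 0 |>.mp ?_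
    have h9 : Spec.map σ (closedPoint _) = closedPoint S.R := by
      rw [Spec.map_preimage, Scheme.Hom.comp_apply, Scheme.fromSpecStalk_closedPoint, hq₀]
    exact congrArg PrimeSpectrum.asIdeal h9
  let ρ : P.presheaf.stalk y₀ ⟶ CommRingCat.of S.K :=
    P.presheaf.stalkSpecializes hs ≫ Scheme.stalkClosedPointTo a₁
  have hρ : Spec.map ρ ≫ P.fromSpecStalk y₀ = a₁ := by
    rw [Spec.map_comp, Category.assoc, Scheme.SpecMap_stalkSpecializes_fromSpecStalk]
    exact Scheme.Spec_stalkClosedPointTo_fromSpecStalk a₁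
  have hσρ : σ ≫ ρ = alg := by
    apply Spec.map_injective
    rw [Spec.map_comp, Spec.map_preimage, ← Category.assoc, hρ, ha₁]
  have hσρ' : ∀ r, ρ (σ r) = algebraMap S.R S.K r := fun r ↦ congr($hσρ r)
  have hrange : ∀ o, ρ o ∈ (algebraMap S.R S.K).range := by
    intro o
    rcases ValuationRing.isInteger_or_isInteger S.R (ρ o) with h1 | ⟨r, hr⟩
    · exact h1
    · by_cases hk : ρ o = 0
      · exact ⟨0, by rw [map_zero, hk]⟩
      by_cases hru : IsUnit r
      · obtain ⟨u, rfl⟩ := hru
        refine ⟨↑u⁻¹, ?_⟩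
        rw [← inv_inv (ρ o), ← hr, ← map_units_inv]
      · exfalso
        have hm : ¬ IsUnit (σ r * o) := fun hu ↦ hru ((isUnit_map_iff σ.hom r).mp
          (isUnit_of_mul_isUnit_left hu))
        have hu : IsUnit (1 - σ r * o) := isUnit_one_sub_self_of_mem_nonunits _ hm
        refine not_isUnit_zero (M₀ := S.K) ?_
        have h0 : ρ (1 - σ r * o) = 0 := by
          rw [map_sub, map_one, map_mul, hσρ', hr, inv_mul_cancel₀ hk, sub_self]
        exact h0 ▸ hu.map ρ.hom
  have hinj : Function.Injective (algebraMap S.R S.K) := IsFractionRing.injective _ _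
  let eR : S.R ≃+* (algebraMap S.R S.K).range :=
    RingEquiv.ofBijective (algebraMap S.R S.K).rangeRestrict
      ⟨fun a b e ↦ hinj (congrArg Subtype.val e), (algebraMap S.R S.K).rangeRestrict_surjective⟩
  let τ : P.presheaf.stalk y₀ ⟶ CommRingCat.of S.R :=
    CommRingCat.ofHom (eR.symm.toRingHom.comp (ρ.hom.codRestrict _ hrange))
  have hτ : τ ≫ alg = ρ := by
    ext o
    exact congrArg Subtype.val (eR.apply_symm_apply ⟨ρ o, hrange o⟩)
  have hστ : σ ≫ τ = 𝟙 _ := by
    ext r
    apply hinj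
    exact (congr($hτ (σ r))).trans (hσρ' r)
  refine ⟨⟨⟨Spec.map τ ≫ P.fromSpecStalk y₀ ≫ pullback.fst f S.i₂, ?_, ?_⟩⟩⟩
  · rw [← Spec.map_comp_assoc, hτ, ← Category.assoc, hρ]
    exact pullback.lift_fst _ _ _
  · rw [Category.assoc, Category.assoc, pullback.condition, ← Category.assoc (P.fromSpecStalk y₀),
      ← Spec.map_preimage (P.fromSpecStalk y₀ ≫ pullback.snd f S.i₂), ← Category.assoc,
      ← Spec.map_comp, hστ, Spec.map_id, Category.id_comp]

/-- A value not integral over a Noetherian local image is excluded by a dominating discrete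
valuation ring. -/
theorem exists_dvr_excluding {A L : Type u} [CommRing A] [IsNoetherianRing A] [IsLocalRing A]
    [Field L] (φ : A →+* L) (hgen : Subfield.closure (Set.range φ) = ⊤) (c : L)
    (hc : ¬ φ.IsIntegralElem c) :
    ∃ V : ValuationSubring L, IsDiscreteValuationRing V ∧ c ∉ V ∧
      ∃ φV : A →+* V, IsLocalHom φV ∧ ∀ a, (φV a : L) = φ a := by
  have hc0 : c ≠ 0 := fun h ↦ hc (h ▸ φ.isIntegralElem_zero)
  let e : Polynomial A →+* L := Polynomial.eval₂RingHom φ c⁻¹
  let J : Ideal (Polynomial A) := (maximalIdeal A).comap Polynomial.constantCoeff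
  have : J.IsPrime := Ideal.IsPrime.comap _
  have hker : RingHom.ker e ≤ J := by
    intro p hp
    by_contra hpJ
    obtain ⟨u, hu⟩ := (IsLocalRing.notMem_maximalIdeal).mp hpJ
    have hu' : (u : A) = p.coeff 0 := hu
    have h0 : p.coeff 0 ≠ 0 := hu' ▸ u.ne_zero
    refine hc ⟨Polynomial.C (↑u⁻¹ : A) * p.reverse, ?_, ?_⟩
    · apply Polynomial.monic_C_mul_of_mul_leadingCoeff_eq_one
      rw [Polynomial.reverse_leadingCoeff,
        Polynomial.trailingCoeff_eq_coeff_zero h0, ← hu', Units.inv_mul]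
    · let := invertibleOfNonzero (inv_ne_zero hc0)
      have h1 : p.reverse.eval₂ φ c = 0 := by
        have h2 := (Polynomial.eval₂_reverse_eq_zero_iff φ c⁻¹ p).mpr hp
        simpa [invOf_eq_inv] using h2
      rw [Polynomial.eval₂_mul, h1, mul_zero]
  let C := Polynomial A ⧸ RingHom.ker e
  let q : Ideal C := J.map (Ideal.Quotient.mk _)
  have : q.IsPrime := Ideal.map_isPrime_of_surjective Ideal.Quotient.mk_surjective
    (by rwa [Ideal.mk_ker])
  have hcomap : ∀ p, Ideal.Quotient.mk (RingHom.ker e) p ∈ q ↔ p ∈ J := fun p ↦ by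
    refine (Ideal.mem_quotient_iff_mem hker).trans Iff.rfl
  let χ : C →+* L := RingHom.kerLift e
  have hχ : ∀ p, χ (Ideal.Quotient.mk _ p) = e p := fun p ↦ RingHom.kerLift_mk e p
  have hXq : Ideal.Quotient.mk (RingHom.ker e) Polynomial.X ∈ q := (hcomap _).mpr (by
    simp [J])
  have hq : q ≠ ⊥ := fun h ↦ by
    rw [h, Ideal.mem_bot] at hXq
    have := congrArg χ hXq
    rw [hχ, map_zero] at this
    exact inv_ne_zero hc0 (by simpa [e] using this)
  obtain ⟨V, hV, φ', hφ', hmem⟩ := GrothLib.PtFun25.exists_dvr_center χ (RingHom.kerLift_injective e)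
    (top_unique (hgen.ge.trans (Subfield.closure_mono (by
      rintro _ ⟨a, rfl⟩
      exact ⟨Ideal.Quotient.mk _ (Polynomial.C a), by rw [hχ]; simp [e]⟩)))) q hq
  refine ⟨V, hV, ?_, φ'.comp ((Ideal.Quotient.mk _).comp Polynomial.C), ⟨fun a ha ↦ ?_⟩, fun a ↦ ?_⟩
  · intro hcV
    have h1 : (φ' (Ideal.Quotient.mk _ Polynomial.X) : L) = c⁻¹ := by
      rw [hφ', hχ]; simp [e]
    refine (IsLocalRing.mem_maximalIdeal _).mp ((hmem _).mpr hXq) (.of_mul_eq_one ⟨c, hcV⟩ ?_)
    apply Subtype.ext
    push_cast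
    rw [h1, inv_mul_cancel₀ hc0]
  · by_contra hna
    refine (IsLocalRing.mem_maximalIdeal _).mp ((hmem _).mpr ((hcomap _).mpr ?_)) ha
    simpa [J] using (IsLocalRing.mem_maximalIdeal a).mpr hna
  · rw [RingHom.comp_apply, RingHom.comp_apply, hφ', hχ]
    simp [e]

theorem closure_range_toResidue_id (s₁ s₀ : X) (h : s₁ ⤳ s₀) :
    Subfield.closure (Set.range (DVRDom.toResidue (𝟙 X) s₁ s₀ h)) = ⊤ := by
  obtain ⟨V, hV, h0, -⟩ :=
    exists_isAffineOpen_mem_and_subset (TopologicalSpace.Opens.mem_top s₀)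
  have h1 : s₁ ∈ V := h.mem_open V.isOpen h0
  let := TopCat.Presheaf.algebra_section_stalk X.presheaf (⟨s₁, h1⟩ : (V : Set _))
  have := hV.isLocalization_stalk ⟨s₁, h1⟩
  have hval : ∀ a : Γ(X, V), DVRDom.toResidue (𝟙 X) s₁ s₀ h (X.presheaf.germ V s₀ h0 a) =
      X.residue s₁ (X.presheaf.germ V s₁ h1 a) := by
    intro a
    rw [DVRDom.toResidue, Scheme.Hom.stalkMap_id]
    change X.residue s₁ (X.presheaf.stalkSpecializes h (X.presheaf.germ V s₀ h0 a)) = _
    exact congrArg (X.residue s₁) (congr($(TopCat.Presheaf.germ_stalkSpecializes X.presheaf h0 h) a))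
  refine top_unique fun k _ ↦ ?_
  obtain ⟨o, rfl⟩ := X.residue_surjective s₁ k
  obtain ⟨⟨a, b⟩, hab⟩ := IsLocalization.surj
    (hV.primeIdealOf ⟨s₁, h1⟩).asIdeal.primeCompl o
  have hb : IsUnit (X.presheaf.germ V s₁ h1 b.1) :=
    IsLocalization.map_units (X.presheaf.stalk s₁) b
  have hb' : X.residue s₁ (X.presheaf.germ V s₁ h1 b.1) ≠ 0 :=
    (hb.map (X.residue s₁).hom).ne_zero
  have e : X.residue s₁ o = DVRDom.toResidue (𝟙 X) s₁ s₀ h (X.presheaf.germ V s₀ h0 a) /
      DVRDom.toResidue (𝟙 X) s₁ s₀ h (X.presheaf.germ V s₀ h0 b.1) := by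
    erw [hval, hval, eq_div_iff hb', ← map_mul]
    exact congrArg _ hab
  rw [e]
  exact div_mem (Subfield.subset_closure ⟨_, rfl⟩) (Subfield.subset_closure ⟨_, rfl⟩)

/-- Discrete valuation rings suffice over locally Noetherian bases. -/
theorem closedLift_of_dvr [IsLocallyNoetherian X] (f : Y ⟶ X) [Mono f]
    (h : ∀ S : ValuativeCommSq f, IsDiscreteValuationRing S.R →
        (∃ l₀ : Spec (CommRingCat.of (IsLocalRing.ResidueField S.R)) ⟶ Y,
            l₀ ≫ f = Spec.map (CommRingCat.ofHom (IsLocalRing.residue S.R)) ≫ S.i₂) →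
          S.commSq.HasLift) : ClosedLift f := by
  intro S ⟨l₀, hl₀⟩
  let y₁ := S.i₁ (closedPoint S.K)
  have hs₀ : S.i₂ (closedPoint S.R) = f (l₀ (closedPoint _)) := by
    rw [← Scheme.Hom.comp_apply, hl₀, Scheme.Hom.comp_apply]
    exact congrArg S.i₂ (comap_closedPoint (IsLocalRing.residue S.R)).symm
  generalize l₀ (closedPoint _) = y₀ at hs₀
  have hsp : f y₁ ⤳ f y₀ := by
    rw [← hs₀, ← Scheme.Hom.comp_apply, S.commSq.w, Scheme.Hom.comp_apply]
    exact (specializes_closedPoint _).map S.i₂.continuous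
  let j : Y.residueField y₁ ⟶ CommRingCat.of S.K :=
    Y.descResidueField (Scheme.stalkClosedPointTo S.i₁)
  have hj : Spec.map j ≫ Y.fromSpecResidueField y₁ = S.i₁ :=
    Scheme.descResidueField_stalkClosedPointTo_fromSpecResidueField _ _ S.i₁
  let ψ := DVRDom.toResidue f y₁ (f y₀) hsp
  let β : X.presheaf.stalk (f y₀) ⟶ CommRingCat.of S.R :=
    X.presheaf.stalkSpecializes (Inseparable.of_eq hs₀).specializes ≫
      Scheme.stalkClosedPointTo S.i₂
  have hβ : Spec.map β ≫ X.fromSpecStalk (f y₀) = S.i₂ := by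
    rw [Spec.map_comp, Category.assoc, Scheme.SpecMap_stalkSpecializes_fromSpecStalk]
    exact Scheme.Spec_stalkClosedPointTo_fromSpecStalk S.i₂
  have hψj : ψ ≫ j = β ≫ CommRingCat.ofHom (algebraMap S.R S.K) := by
    apply Spec.map_injective
    rw [← cancel_mono (X.fromSpecStalk (f y₀)), Spec.map_comp, Spec.map_comp, Category.assoc,
      Category.assoc, hβ, DVRDom.specMap_toResidue f y₁ (f y₀) hsp, ← Category.assoc, hj]
    exact S.commSq.w
  have key : ∃ ρ : Y.presheaf.stalk y₀ ⟶ CommRingCat.of S.K,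
      Spec.map ρ ≫ Y.fromSpecStalk y₀ = S.i₁ ∧ ∀ o, ρ o ∈ (algebraMap S.R S.K).range := by
    by_cases hne : f y₀ = f y₁
    · obtain rfl : y₀ = y₁ := f.injective hne
      refine ⟨Scheme.stalkClosedPointTo S.i₁, Scheme.Spec_stalkClosedPointTo_fromSpecStalk _,
        fun o ↦ ?_⟩
      have : IsIso (f.residueFieldMap y₁) := isIso_residueFieldMap f y₁
      obtain ⟨k, hk⟩ := (ConcreteCategory.bijective_of_isIso (f.residueFieldMap y₁)).2
        (Y.residue y₁ o)
      obtain ⟨a, rfl⟩ := X.residue_surjective (f y₁) k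
      have hψa : ψ a = Y.residue y₁ o := by
        rw [← hk, ← CommRingCat.comp_apply (X.residue _), Scheme.residue_residueFieldMap]
        simp [ψ, DVRDom.toResidue]
      refine ⟨β a, ?_⟩
      have h3 : j (ψ a) = j (Y.residue y₁ o) := by rw [hψa]
      rw [show Scheme.stalkClosedPointTo S.i₁ o = j (Y.residue y₁ o) from
        (congr($(Y.residue_descResidueField (Scheme.stalkClosedPointTo S.i₁)) o)).symm, ← h3]
      exact (congr($hψj a)).symm
    · have := isIso_specMap_residueFieldMap f y₁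
      let φ := DVRDom.toResidue (𝟙 X) (f y₁) (f y₀) hsp
      have hφψ : φ ≫ f.residueFieldMap y₁ = ψ := by
        simp [φ, ψ, DVRDom.toResidue, Scheme.Hom.stalkMap_id, Scheme.residue_residueFieldMap]
      have lift : ∀ (V : ValuationSubring (X.residueField (f y₁))) (_ : IsDiscreteValuationRing V)
          (φV : X.presheaf.stalk (f y₀) →+* V) (_ : IsLocalHom φV) (_ : ∀ a, (φV a : _) = φ a),
          y₁ ⤳ y₀ ∧ ∀ (hs : y₁ ⤳ y₀) (o : Y.presheaf.stalk y₀), ∀ k, f.residueFieldMap y₁ k =
            (Y.presheaf.stalkSpecializes hs ≫ Y.residue y₁) o → k ∈ V := by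
        intro V hV φV hloc hφV
        have e1 : CommRingCat.ofHom φV ≫ CommRingCat.ofHom V.subtype = φ := by
          ext a
          exact hφV a
        let i₁ : Spec (CommRingCat.of (X.residueField (f y₁))) ⟶ Y :=
          inv (Spec.map (f.residueFieldMap y₁)) ≫ Y.fromSpecResidueField y₁
        let i₂ : Spec (CommRingCat.of V) ⟶ X :=
          Spec.map (CommRingCat.ofHom φV) ≫ X.fromSpecStalk (f y₀)
        have hw : i₁ ≫ f = Spec.map (CommRingCat.ofHom V.subtype) ≫ i₂ := by
          rw [← Spec.map_comp_assoc, e1, DVRDom.specMap_toResidue]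
          simp only [i₁, Category.assoc, Category.comp_id,
            ← Scheme.Hom.SpecMap_residueFieldMap_fromSpecResidueField, IsIso.inv_hom_id_assoc]
        have hcl : i₂ (closedPoint V) = f y₀ := by
          rw [Scheme.Hom.comp_apply]
          exact (congrArg (X.fromSpecStalk (f y₀)) (comap_closedPoint φV)).trans
            Scheme.fromSpecStalk_closedPoint
        obtain ⟨m₀, hm₀, -⟩ := exists_point_lift f
          (Spec.map (CommRingCat.ofHom (IsLocalRing.residue V)) ≫ i₂) y₀ (by
            rw [Scheme.Hom.comp_apply]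
            exact (congrArg i₂ (comap_closedPoint (IsLocalRing.residue V))).trans hcl)
        obtain ⟨⟨l⟩⟩ := h ⟨V, X.residueField (f y₁), i₁, i₂, ⟨hw⟩⟩ hV ⟨m₀, hm₀⟩
        have h0 : l.l (closedPoint V) = y₀ := f.injective (by
          rw [← Scheme.Hom.comp_apply, l.fac_right, hcl])
        have hl' : Spec.map (CommRingCat.ofHom V.subtype) ≫ l.l = i₁ := l.fac_left
        have h1 : l.l (Spec.map (CommRingCat.ofHom V.subtype) (closedPoint _)) = y₁ := by
          rw [← Scheme.Hom.comp_apply, hl', Scheme.Hom.comp_apply]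
          exact Scheme.fromSpecResidueField_apply _ _
        have hs' : y₁ ⤳ y₀ := (Inseparable.of_eq h1.symm).specializes.trans
          (((specializes_closedPoint _).map l.l.continuous).trans (Inseparable.of_eq h0).specializes)
        refine ⟨hs', fun hs o k hk ↦ ?_⟩
        let ξ : Y.presheaf.stalk y₀ ⟶ CommRingCat.of V :=
          Y.presheaf.stalkSpecializes (Inseparable.of_eq h0).specializes ≫
            Scheme.stalkClosedPointTo l.l
        have hξ : Spec.map ξ ≫ Y.fromSpecStalk y₀ = l.l := by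
          rw [Spec.map_comp, Category.assoc, Scheme.SpecMap_stalkSpecializes_fromSpecStalk]
          exact Scheme.Spec_stalkClosedPointTo_fromSpecStalk l.l
        have e2 : ξ ≫ CommRingCat.ofHom V.subtype ≫ f.residueFieldMap y₁ =
            Y.presheaf.stalkSpecializes hs ≫ Y.residue y₁ := by
          apply Spec.map_injective
          rw [← cancel_mono (Y.fromSpecStalk y₀), Spec.map_comp ξ,
            Spec.map_comp (CommRingCat.ofHom V.subtype),
            Spec.map_comp (Y.presheaf.stalkSpecializes hs),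
            Category.assoc, Category.assoc, Category.assoc, hξ,
            Scheme.SpecMap_stalkSpecializes_fromSpecStalk, hl']
          simp only [i₁, IsIso.hom_inv_id_assoc]
          rfl
        have hb := (f.residueFieldMap y₁).hom.injective
          (a₁ := ((ξ o : V) : X.residueField (f y₁))) (a₂ := k)
          ((congr($e2 o)).trans hk.symm)
        exact hb ▸ (ξ o).2
      -- a first discrete valuation ring gives the specialization
      have hnf := DVRDom.not_isField_range (𝟙 X) (f y₁) (f y₀) hsp hne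
      obtain ⟨a, ha, ha0⟩ : ∃ a ∈ maximalIdeal (X.presheaf.stalk (f y₀)), φ a ≠ 0 := by
        by_contra hcon
        push Not at hcon
        refine hnf ⟨⟨0, 1, zero_ne_one⟩, mul_comm, fun {z} hz ↦ ?_⟩
        obtain ⟨_, a, rfl⟩ := z
        have hu : IsUnit a := IsLocalRing.notMem_maximalIdeal.mp fun hm ↦
          hz (Subtype.ext (hcon a hm))
        obtain ⟨b, hb⟩ := hu.exists_right_inv
        exact ⟨⟨_, b, rfl⟩, Subtype.ext ((map_mul φ.hom a b).symm.trans (by simp [hb]))⟩
      have hgen := closure_range_toResidue_id (f y₁) (f y₀) hsp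
      have hni : ¬ φ.hom.IsIntegralElem (φ a)⁻¹ := by
        rintro ⟨p, hp, hp0⟩
        have h4 : φ (p.reverse.eval a) = 0 := by
          let := invertibleOfNonzero (inv_ne_zero ha0)
          have h2 := (Polynomial.eval₂_reverse_eq_zero_iff φ.hom (φ a)⁻¹ p).mpr hp0
          rw [invOf_eq_inv, inv_inv] at h2
          rw [← h2]
          exact (Polynomial.eval₂_at_apply φ.hom a).symm
        have h5 : IsUnit (p.reverse.eval a) := by
          refine IsLocalRing.notMem_maximalIdeal.mp fun hm ↦ ?_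
          have h6 : p.reverse.eval a - p.reverse.coeff 0 ∈ maximalIdeal (X.presheaf.stalk (f y₀)) := by
            obtain ⟨w, hw⟩ := Polynomial.sub_dvd_eval_sub a 0 p.reverse
            rw [Polynomial.coeff_zero_eq_eval_zero, hw, sub_zero]
            exact Ideal.mul_mem_right _ _ ha
          rw [Polynomial.coeff_zero_reverse, hp.leadingCoeff] at h6
          exact (IsLocalRing.notMem_maximalIdeal.mpr isUnit_one)
            (sub_sub_cancel (p.reverse.eval a) 1 ▸ sub_mem hm h6)
        exact (h5.map φ.hom).ne_zero h4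
      obtain ⟨V, hV, -, φV, hloc, hφV⟩ := exists_dvr_excluding φ.hom hgen _ hni
      have hs := (lift V hV φV hloc hφV).1
      refine ⟨Y.presheaf.stalkSpecializes hs ≫ Y.residue y₁ ≫ j, ?_, fun o ↦ ?_⟩
      · rw [Spec.map_comp, Spec.map_comp, Category.assoc, Category.assoc,
          Scheme.SpecMap_stalkSpecializes_fromSpecStalk]
        exact hj
      have : IsIso (f.residueFieldMap y₁) := isIso_residueFieldMap f y₁
      obtain ⟨k, hk⟩ := (ConcreteCategory.bijective_of_isIso (f.residueFieldMap y₁)).2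
        ((Y.presheaf.stalkSpecializes hs ≫ Y.residue y₁) o)
      have hint : φ.hom.IsIntegralElem k := by
        by_contra hk'
        obtain ⟨V', hV', hkV, φV', hloc', hφV'⟩ := exists_dvr_excluding φ.hom hgen k hk'
        exact hkV ((lift V' hV' φV' hloc' hφV').2 hs o k hk)
      obtain ⟨p, hp, hp0⟩ := hint
      let J : CommRingCat.of (X.residueField (f y₁)) ⟶ CommRingCat.of S.K :=
        f.residueFieldMap y₁ ≫ j
      have hJ : J.hom.comp φ.hom = (algebraMap S.R S.K).comp β.hom := by
        rw [← CommRingCat.hom_comp, ← Category.assoc, hφψ, hψj]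
        rfl
      have hroot : IsIntegral S.R (J k) := by
        refine ⟨p.map β.hom, hp.map _, ?_⟩
        rw [Polynomial.eval₂_map, ← hJ, ← Polynomial.hom_eval₂, hp0, map_zero]
      obtain ⟨r, hr⟩ := IsIntegrallyClosed.isIntegral_iff.mp hroot
      exact ⟨r, hr.trans (congrArg j.hom hk)⟩
  obtain ⟨ρ, hρ, hrange⟩ := key
  have hinj : Function.Injective (algebraMap S.R S.K) := IsFractionRing.injective _ _
  let eR : S.R ≃+* (algebraMap S.R S.K).range :=
    RingEquiv.ofBijective (algebraMap S.R S.K).rangeRestrict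
      ⟨fun a b e ↦ hinj (congrArg Subtype.val e), (algebraMap S.R S.K).rangeRestrict_surjective⟩
  let τ : Y.presheaf.stalk y₀ ⟶ CommRingCat.of S.R :=
    CommRingCat.ofHom (eR.symm.toRingHom.comp (ρ.hom.codRestrict _ hrange))
  have hτ : τ ≫ CommRingCat.ofHom (algebraMap S.R S.K) = ρ := by
    ext o
    exact congrArg Subtype.val (eR.apply_symm_apply ⟨ρ o, hrange o⟩)
  refine ⟨⟨⟨Spec.map τ ≫ Y.fromSpecStalk y₀, ?_, ?_⟩⟩⟩
  · rw [← Spec.map_comp_assoc, hτ, hρ]
  · rw [Category.assoc, ← Scheme.SpecMap_stalkMap_fromSpecStalk, ← Spec.map_comp_assoc, ← hβ]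
    congr 1
    apply Spec.map_injective.eq_iff.mpr
    ext a
    apply hinj
    have h7 : ρ (f.stalkMap y₀ a) = algebraMap S.R S.K (β a) := by
      have h8 : f.stalkMap y₀ ≫ ρ = β ≫ CommRingCat.ofHom (algebraMap S.R S.K) := by
        apply Spec.map_injective
        rw [← cancel_mono (X.fromSpecStalk (f y₀)), Spec.map_comp, Spec.map_comp, Category.assoc,
          Category.assoc, hβ, Scheme.SpecMap_stalkMap_fromSpecStalk, ← Category.assoc, hρ]
        exact S.commSq.w
      exact congr($h8 a)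
    exact (congr($hτ (f.stalkMap y₀ a))).trans h7

end GrothLib.MonoLift9
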