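import Groth.Agent.Lib.MonoLift9.Basic
import Groth.Agent.Lib.GrpdQuot.InvariantOpen
import Groth.Agent.Lib.QuasiSec.Finite
import Mathlib.AlgebraicGeometry.ZariskisMainTheorem
import Mathlib.RingTheory.Ideal.GoingUp

/-!
# Monomorphisms with valuative lifts are immersions
-/

set_option autoImplicit false
set_option backward.isDefEq.respectTransparency false

universe u

open CategoryTheory CategoryTheory.Limits AlgebraicGeometry IsLocalRing

namespace GrothLib.MonoLift9

variable {X Y : Scheme.{u}}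

theorem mem_range_of_between [IsLocallyNoetherian X] (f : Y ⟶ X) [Mono f] (hf : ClosedLift f)
    (e q : Y) (p : X) (h1 : f e ⤳ p) (h2 : p ⤳ f q) : p ∈ Set.range f := by
  have hsp : f e ⤳ f q := h1.trans h2
  have heq : e ⤳ q := specializes_of_closedLift f hf q e hsp
  have := isIso_specMap_residueFieldMap f e
  have := isIso_residueFieldMap f e
  let φ := DVRDom.toResidue (𝟙 X) (f e) (f q) hsp
  have hgen := closure_range_toResidue_id (f e) (f q) hsp
  let θ : Y.presheaf.stalk q ⟶ X.residueField (f e) :=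
    Y.presheaf.stalkSpecializes heq ≫ Y.residue e ≫ inv (f.residueFieldMap e)
  have hθ : f.stalkMap q ≫ θ = φ := by
    rw [← cancel_mono (f.residueFieldMap e)]
    simp only [θ, φ, Category.assoc, IsIso.inv_hom_id, Category.comp_id, DVRDom.toResidue,
      Scheme.Hom.stalkMap_id]
    rw [← Category.assoc, ← Scheme.Hom.stalkSpecializes_stalkMap f e q heq, Category.assoc,
      ← Scheme.residue_residueFieldMap]
    rfl
  have hint : ∀ o, φ.hom.IsIntegralElem (θ o) := by
    intro o
    by_contra hno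
    obtain ⟨V, hV, hkV, φV, hloc, hφV⟩ := exists_dvr_excluding φ.hom hgen _ hno
    have e1 : CommRingCat.ofHom φV ≫ CommRingCat.ofHom V.subtype = φ := by
      ext a
      exact hφV a
    let i₁ : Spec (CommRingCat.of (X.residueField (f e))) ⟶ Y :=
      inv (Spec.map (f.residueFieldMap e)) ≫ Y.fromSpecResidueField e
    let i₂ : Spec (CommRingCat.of V) ⟶ X :=
      Spec.map (CommRingCat.ofHom φV) ≫ X.fromSpecStalk (f q)
    have hw : i₁ ≫ f = Spec.map (CommRingCat.ofHom (algebraMap V (X.residueField (f e)))) ≫ i₂ := by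
      change _ = Spec.map (CommRingCat.ofHom V.subtype) ≫ i₂
      rw [← Spec.map_comp_assoc, e1, DVRDom.specMap_toResidue]
      simp only [i₁, Category.assoc, Category.comp_id,
        ← Scheme.Hom.SpecMap_residueFieldMap_fromSpecResidueField, IsIso.inv_hom_id_assoc]
    have hcl : i₂ (closedPoint V) = f q := by
      rw [Scheme.Hom.comp_apply]
      exact (congrArg (X.fromSpecStalk (f q)) (comap_closedPoint φV)).trans
        Scheme.fromSpecStalk_closedPoint
    obtain ⟨m₀, hm₀, -⟩ := exists_point_lift f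
      (Spec.map (CommRingCat.ofHom (IsLocalRing.residue V)) ≫ i₂) q (by
        rw [Scheme.Hom.comp_apply]
        exact (congrArg i₂ (comap_closedPoint (IsLocalRing.residue V))).trans hcl)
    obtain ⟨⟨l⟩⟩ := hf ⟨V, X.residueField (f e), i₁, i₂, ⟨hw⟩⟩ ⟨m₀, hm₀⟩
    have h0 : l.l (closedPoint V) = q := f.injective (by
      rw [← Scheme.Hom.comp_apply, l.fac_right, hcl])
    let ξ : Y.presheaf.stalk q ⟶ CommRingCat.of V :=
      Y.presheaf.stalkSpecializes (Inseparable.of_eq h0).specializes ≫
        Scheme.stalkClosedPointTo l.l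
    have hξ : Spec.map ξ ≫ Y.fromSpecStalk q = l.l := by
      rw [Spec.map_comp, Category.assoc, Scheme.SpecMap_stalkSpecializes_fromSpecStalk]
      exact Scheme.Spec_stalkClosedPointTo_fromSpecStalk l.l
    have hl' : Spec.map (CommRingCat.ofHom V.subtype) ≫ l.l = i₁ := l.fac_left
    have e2 : ξ ≫ CommRingCat.ofHom V.subtype = θ := by
      apply Spec.map_injective
      rw [← cancel_mono (Y.fromSpecStalk q), Spec.map_comp ξ, Category.assoc, hξ, hl']
      have e3 : Spec.map θ = Spec.map (inv (f.residueFieldMap e)) ≫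
          Spec.map (Y.residue e) ≫ Spec.map (Y.presheaf.stalkSpecializes heq) := by
        simp [θ]
      rw [e3, Category.assoc, Category.assoc, Scheme.SpecMap_stalkSpecializes_fromSpecStalk]
      have e4 : inv (Spec.map (f.residueFieldMap e)) = Spec.map (inv (f.residueFieldMap e)) := by
        apply IsIso.inv_eq_of_hom_inv_id
        rw [← Spec.map_comp, IsIso.inv_hom_id, Spec.map_id]
      simp only [i₁, e4]
      rfl
    exact hkV ((congr($e2 o)) ▸ (ξ o).2)
  obtain ⟨w, hw⟩ : p ∈ Set.range (X.fromSpecStalk (f q)) := by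
    rw [Scheme.range_fromSpecStalk]
    exact h2
  let C := Y.presheaf.stalk q ⧸ RingHom.ker θ.hom
  let σ : X.presheaf.stalk (f q) →+* C := (Ideal.Quotient.mk _).comp (f.stalkMap q).hom
  algebraize [σ]
  have : (RingHom.ker θ.hom).IsPrime := RingHom.ker_isPrime _
  have hσ : ∀ a, RingHom.kerLift θ.hom (σ a) = φ a := fun a ↦
    (RingHom.kerLift_mk θ.hom _).trans (congr($hθ a))
  have : Algebra.IsIntegral (X.presheaf.stalk (f q)) C := by
    refine ⟨fun c ↦ ?_⟩
    obtain ⟨o, rfl⟩ := Ideal.Quotient.mk_surjective c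
    obtain ⟨P, hP, hP0⟩ := hint o
    refine ⟨P, hP, RingHom.kerLift_injective θ.hom ?_⟩
    rw [map_zero, Polynomial.hom_eval₂]
    have : (RingHom.kerLift θ.hom).comp (algebraMap (X.presheaf.stalk (f q)) C) = φ.hom :=
      RingHom.ext hσ
    rw [this, RingHom.kerLift_mk]
    exact hP0
  have hker : RingHom.ker (algebraMap (X.presheaf.stalk (f q)) C) ≤ w.asIdeal := by
    intro a ha
    have hgenpt : Spec.map φ (closedPoint (X.residueField (f e))) ⤳ w := by
      rw [← (X.fromSpecStalk (f q)).isEmbedding.isInducing.specializes_iff, hw,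
        ← Scheme.Hom.comp_apply, DVRDom.specMap_toResidue, Category.comp_id,
        Scheme.fromSpecResidueField_apply]
      exact h1
    have hle : (Spec.map φ (closedPoint (X.residueField (f e)))).asIdeal ≤ w.asIdeal :=
      (PrimeSpectrum.le_iff_specializes _ _).mpr hgenpt
    refine hle ?_
    change φ a ∈ maximalIdeal _
    rw [← hσ a, show σ a = 0 from ha, map_zero]
    exact Ideal.zero_mem _
  obtain ⟨Q, hQ, hQc⟩ := Ideal.exists_ideal_over_prime_of_isIntegral_of_isDomain w.asIdeal hker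
  refine ⟨Y.fromSpecStalk q ⟨Q.comap (Ideal.Quotient.mk _), inferInstance⟩, ?_⟩
  rw [← Scheme.Hom.comp_apply, ← Scheme.SpecMap_stalkMap_fromSpecStalk, Scheme.Hom.comp_apply, ← hw]
  congr 1
  exact PrimeSpectrum.ext hQc

theorem isImmersion_of_closedLift [IsLocallyNoetherian X] (f : Y ⟶ X) [Mono f]
    [LocallyOfFinitePresentation f] [QuasiCompact f] (hf : ClosedLift f) : IsImmersion f := by
  let i := f.ker.subschemeι
  have hi : Set.range i = closure (Set.range f) := by
    rw [Scheme.IdealSheafData.range_subschemeι, Scheme.Hom.support_ker]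
  let π := pullback.snd f i
  have hπ : Set.range π = i ⁻¹' Set.range f := Scheme.Pullback.range_snd f i
  have hopen : IsOpen (Set.range π) := by
    rw [isOpen_iff_mem_nhds]
    intro u hu
    refine GrothLib.QuasiSec.range_mem_nhds π u fun w hw ↦ ?_
    rw [hπ] at hu ⊢
    obtain ⟨q, hq⟩ := hu
    obtain ⟨e, -, he⟩ := GrpdQuot.exists_specializes_of_mem_closure f Set.univ isClosed_univ (i w)
      (by rw [Set.image_univ, ← hi]; exact ⟨w, rfl⟩)
    exact mem_range_of_between f hf e q (i w) he (hq ▸ hw.map i.continuous)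
  let O : X.Opens := ⟨(i '' (Set.range π)ᶜ)ᶜ,
    (i.isClosedMap _ hopen.isClosed_compl).isOpen_compl⟩
  have hO : Set.range f ⊆ Set.range O.ι := by
    rw [Scheme.Opens.range_ι]
    rintro _ ⟨y, rfl⟩ ⟨w, hw, hwy⟩
    exact hw (hπ ▸ ⟨y, hwy.symm⟩)
  have hmem : ∀ x, x ∈ O → x ∈ closure (Set.range f) → x ∈ Set.range f := by
    intro x hxO hx
    obtain ⟨w, rfl⟩ := hi.symm ▸ hx
    by_contra h
    exact hxO ⟨w, by rw [hπ]; exact h, rfl⟩
  let g := IsOpenImmersion.lift O.ι f hO
  have hg : g ≫ O.ι = f := IsOpenImmersion.lift_fac _ _ _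
  have : Mono g := mono_of_mono_fac hg
  have : QuasiCompact (g ≫ O.ι) := by rw [hg]; infer_instance
  have : QuasiCompact g := QuasiCompact.of_comp g O.ι
  have : LocallyOfFiniteType (g ≫ O.ι) := by rw [hg]; infer_instance
  have : LocallyOfFiniteType g := locallyOfFiniteType_of_comp g O.ι
  have : UniversallyClosed g := by
    refine UniversallyClosed.of_valuativeCriterion _ fun S ↦ ?_
    have hw : S.i₁ ≫ f = Spec.map (CommRingCat.ofHom (algebraMap S.R S.K)) ≫ S.i₂ ≫ O.ι := by
      rw [← Category.assoc (Spec.map _), ← S.commSq.w, Category.assoc, hg]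
    have hcl : (S.i₂ ≫ O.ι) (closedPoint S.R) ∈ closure (Set.range f) := by
      have h3 : (S.i₁ ≫ f) (closedPoint S.K) ⤳ (S.i₂ ≫ O.ι) (closedPoint S.R) := by
        rw [hw, Scheme.Hom.comp_apply]
        exact (specializes_closedPoint _).map (S.i₂ ≫ O.ι).continuous
      exact h3.mem_closed isClosed_closure (subset_closure ⟨_, (Scheme.Hom.comp_apply _ _ _).symm⟩)
    obtain ⟨y, hy⟩ := hmem _ (S.i₂ (closedPoint S.R)).2 hcl
    obtain ⟨l₀, hl₀, -⟩ := exists_point_lift f
      (Spec.map (CommRingCat.ofHom (IsLocalRing.residue S.R)) ≫ S.i₂ ≫ O.ι) y (by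
        rw [Scheme.Hom.comp_apply]
        exact (congrArg (S.i₂ ≫ O.ι) (comap_closedPoint (IsLocalRing.residue S.R))).trans hy.symm)
    obtain ⟨⟨l⟩⟩ := hf ⟨S.R, S.K, S.i₁, S.i₂ ≫ O.ι, ⟨hw⟩⟩ ⟨l₀, hl₀⟩
    refine ⟨⟨⟨l.l, l.fac_left, ?_⟩⟩⟩
    rw [← cancel_mono O.ι, Category.assoc, hg]
    exact l.fac_right
  have : IsProper g := {}
  have : IsClosedImmersion g := (IsClosedImmersion.iff_isProper_and_mono g).mpr ⟨inferInstance, inferInstance⟩
  rw [← hg]
  infer_instance

end GrothLib.MonoLift9
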