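import Groth.Agent.Lib.MonoLift9.Basic
import Mathlib.AlgebraicGeometry.Noetherian
import Mathlib.RingTheory.Spectrum.Prime.Topology

/-!
# Quasi-compactness of monomorphisms with dense lifts
-/

set_option autoImplicit false
set_option backward.isDefEq.respectTransparency false

universe u

open CategoryTheory AlgebraicGeometry TopologicalSpace

namespace GrothLib.MonoLift9

variable {X Y : Scheme.{u}}

theorem quasiCompact_of_denseLift [IsLocallyNoetherian X] (f : Y ⟶ X) [Mono f]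
    (hc : ∀ (A : Type u) [CommRing A] [IsDomain A] (s : Spec (CommRingCat.of A) ⟶ X)
        (D : Set ↥(Spec (CommRingCat.of A))), Dense D →
        (∀ p ∈ D, ∃ l : Spec ((Spec (CommRingCat.of A)).residueField p) ⟶ Y,
            l ≫ f = (Spec (CommRingCat.of A)).fromSpecResidueField p ≫ s) →
          ∃ U : (Spec (CommRingCat.of A)).Opens, (U : Set ↥(Spec (CommRingCat.of A))).Nonempty ∧
            ∃ l : (U : Scheme.{u}) ⟶ Y, l ≫ f = U.ι ≫ s) :
    QuasiCompact f := by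
  rw [quasiCompact_iff_forall_isAffineOpen]
  intro W hW
  have : IsNoetherianRing Γ(X, W) := IsLocallyNoetherian.component_noetherian ⟨W, hW⟩
  let j := hW.fromSpec
  suffices h : ∀ Z : Closeds (PrimeSpectrum Γ(X, W)), IsCompact (f ⁻¹' (j '' (Z : Set (PrimeSpectrum Γ(X, W))))) by
    have h1 := h ⊤
    rw [Closeds.coe_top, Set.image_univ, hW.range_fromSpec] at h1
    exact h1
  intro Z
  induction Z using WellFoundedLT.induction
  rename_i Z IH
  by_cases hne : (Z : Set (PrimeSpectrum Γ(X, W))) = ∅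
  · rw [hne, Set.image_empty, Set.preimage_empty]
    exact isCompact_empty
  by_cases hirr : IsPreirreducible (Z : Set (PrimeSpectrum Γ(X, W)))
  swap
  · rw [isPreirreducible_iff_isClosed_union_isClosed] at hirr
    push Not at hirr
    obtain ⟨Z₁, Z₂, h₁, h₂, hsub, hn₁, hn₂⟩ := hirr
    let A : Closeds (PrimeSpectrum Γ(X, W)) := ⟨Z ∩ Z₁, Z.isClosed.inter h₁⟩
    let B : Closeds (PrimeSpectrum Γ(X, W)) := ⟨Z ∩ Z₂, Z.isClosed.inter h₂⟩
    have hA : A < Z := lt_of_le_not_ge Set.inter_subset_left fun h ↦ hn₁ fun z hz ↦ (h hz).2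
    have hB : B < Z := lt_of_le_not_ge Set.inter_subset_left fun h ↦ hn₂ fun z hz ↦ (h hz).2
    have e : f ⁻¹' (j '' (Z : Set (PrimeSpectrum Γ(X, W)))) = f ⁻¹' (j '' (A : Set (PrimeSpectrum Γ(X, W)))) ∪ f ⁻¹' (j '' (B : Set (PrimeSpectrum Γ(X, W)))) := by
      rw [← Set.preimage_union, ← Set.image_union]
      congr 2
      change (Z : Set (PrimeSpectrum Γ(X, W))) = ((Z : Set (PrimeSpectrum Γ(X, W))) ∩ Z₁) ∪ ((Z : Set (PrimeSpectrum Γ(X, W))) ∩ Z₂)
      rw [← Set.inter_union_distrib_left, Set.inter_eq_left.mpr hsub]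
    rw [e]
    exact (IH A hA).union (IH B hB)
  have hirr' : IsIrreducible (Z : Set (PrimeSpectrum Γ(X, W))) :=
    ⟨Set.nonempty_iff_ne_empty.mpr hne, hirr⟩
  let E : Set (PrimeSpectrum Γ(X, W)) := j ⁻¹' Set.range f
  by_cases hd : (Z : Set (PrimeSpectrum Γ(X, W))) ⊆ closure ((Z : Set (PrimeSpectrum Γ(X, W))) ∩ E)
  swap
  · let A : Closeds (PrimeSpectrum Γ(X, W)) := ⟨closure ((Z : Set (PrimeSpectrum Γ(X, W))) ∩ E), isClosed_closure⟩
    have hA : A < Z := lt_of_le_not_ge (Z.isClosed.closure_subset_iff.mpr Set.inter_subset_left) hd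
    have e : f ⁻¹' (j '' (Z : Set (PrimeSpectrum Γ(X, W)))) = f ⁻¹' (j '' (A : Set (PrimeSpectrum Γ(X, W)))) := by
      ext y
      constructor
      · rintro ⟨z, hz, hzy⟩
        exact ⟨z, subset_closure ⟨hz, y, hzy.symm⟩, hzy⟩
      · rintro ⟨z, hz, hzy⟩
        exact ⟨z, hA.le hz, hzy⟩
    rw [e]
    exact IH A hA
  let I := PrimeSpectrum.vanishingIdeal (Z : Set (PrimeSpectrum Γ(X, W)))
  have : I.IsPrime := PrimeSpectrum.isIrreducible_iff_vanishingIdeal_isPrime.mp hirr'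
  let π : Spec (CommRingCat.of (Γ(X, W) ⧸ I)) ⟶ Spec Γ(X, W) :=
    Spec.map (CommRingCat.ofHom (Ideal.Quotient.mk I))
  have hπ : IsClosedImmersion π := IsClosedImmersion.spec_of_surjective _ Ideal.Quotient.mk_surjective
  have hrange : Set.range π = (Z : Set (PrimeSpectrum Γ(X, W))) := by
    refine (range_comap_of_surjective _ _ Ideal.Quotient.mk_surjective).trans ?_
    rw [Ideal.mk_ker, PrimeSpectrum.zeroLocus_vanishingIdeal_eq_closure, Z.isClosed.closure_eq]
  let D : Set ↥(Spec (CommRingCat.of (Γ(X, W) ⧸ I))) := π ⁻¹' E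
  have hD : Dense D := by
    intro d
    have h3 : π d ∈ closure (π '' D) := by
      rw [Set.image_preimage_eq_inter_range, hrange, Set.inter_comm]
      exact hd (hrange.le ⟨d, rfl⟩)
    rw [π.isClosedEmbedding.closure_image_eq] at h3
    obtain ⟨d', hd', he⟩ := h3
    exact π.isClosedEmbedding.injective he ▸ hd'
  obtain ⟨O, hO, l, hl⟩ := hc (Γ(X, W) ⧸ I) (π ≫ j) D hD fun p hp ↦ by
    obtain ⟨y, hy⟩ := hp
    obtain ⟨l, hl, -⟩ := exists_point_lift f
      ((Spec (CommRingCat.of (Γ(X, W) ⧸ I))).fromSpecResidueField p ≫ π ≫ j) y (by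
        rw [Scheme.Hom.comp_apply]
        exact (congrArg (π ≫ j) (Scheme.fromSpecResidueField_apply _ _)).trans hy.symm)
    exact ⟨l, hl⟩
  have hcl : IsClosed (π '' (O : Set _)ᶜ) := π.isClosedMap _ O.isOpen.isClosed_compl
  let A : Closeds (PrimeSpectrum Γ(X, W)) := ⟨π '' (O : Set _)ᶜ, hcl⟩
  have hA : A < Z := by
    refine lt_of_le_not_ge ?_ fun h ↦ ?_
    · rintro _ ⟨o, -, rfl⟩
      exact hrange.le ⟨o, rfl⟩
    · obtain ⟨o, ho⟩ := hO
      obtain ⟨o', ho', he⟩ := h (hrange.le ⟨o, rfl⟩)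
      exact ho' (π.isClosedEmbedding.injective he ▸ ho)
  have e : f ⁻¹' (j '' (Z : Set (PrimeSpectrum Γ(X, W)))) = Set.range l ∪ f ⁻¹' (j '' (A : Set (PrimeSpectrum Γ(X, W)))) := by
    ext y
    constructor
    · rintro ⟨z, hz, hzy⟩
      obtain ⟨o, rfl⟩ := hrange.ge hz
      by_cases ho : o ∈ O
      · refine Or.inl ⟨⟨o, ho⟩, f.injective ?_⟩
        rw [← Scheme.Hom.comp_apply, hl, ← hzy]
        rfl
      · exact Or.inr ⟨_, ⟨o, ho, rfl⟩, hzy⟩
    · rintro (⟨o, rfl⟩ | ⟨z, hz, hzy⟩)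
      · refine ⟨π (O.ι o), hrange.le ⟨_, rfl⟩, ?_⟩
        rw [← Scheme.Hom.comp_apply, ← Scheme.Hom.comp_apply, ← hl, Scheme.Hom.comp_apply]
      · exact ⟨z, hA.le hz, hzy⟩
  have : CompactSpace (O : Scheme.{u}) :=
    have : NoetherianSpace ↥(Spec (CommRingCat.of (Γ(X, W) ⧸ I))) :=
      inferInstanceAs (NoetherianSpace (PrimeSpectrum (Γ(X, W) ⧸ I)))
    isCompact_iff_compactSpace.mp
      (NoetherianSpace.isCompact (O : Set ↥(Spec (CommRingCat.of (Γ(X, W) ⧸ I)))))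
  rw [e]
  exact (isCompact_range l.continuous).union (IH A hA)

end GrothLib.MonoLift9
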